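import Cfsg.Agent.SM.CSi.Cnt

/-!
# SM (S3570), box CS-F: eigenspaces of an involution, orbit counts (helper61)
-/

set_option autoImplicit false
set_option linter.unusedSectionVars false

namespace Cfsg.Agent.SM.CS.Ff

open Module QuadraticMap Matrix Subgroup
open Cfsg Cfsg.Geo Cfsg.Agent.SM.CS.Ix
open Cfsg.Agent.H925 (qf nondeg_qf)

section group

variable {Γ : Type*} [Group Γ]

/-- the index of a centraliser is the number of conjugates -/
theorem relIndex_cent (H : Subgroup Γ) (z : Γ) :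
    (centralizer {z}).relIndex H = {b | ∃ g ∈ H, g * z * g⁻¹ = b}.ncard := by
  let _ : MulAction Γ Γ := MulAction.compHom Γ (MulAut.conj : Γ →* MulAut Γ)
  have h1 := relIndex_stabilizer H z
  have h2 : MulAction.stabilizer Γ z = centralizer {z} := by
    ext g
    rw [MulAction.mem_stabilizer_iff, mem_centralizer_singleton_iff]
    change g * z * g⁻¹ = z ↔ _
    rw [mul_inv_eq_iff_eq_mul]
  rw [h2] at h1
  exact h1

theorem relIndex_swap (A C Y : Subgroup Γ) : A.relIndex (C ⊓ Y) * C.relIndex Y = C.relIndex (A ⊓ Y) * A.relIndex Y := by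
  rw [relIndex_inf_mul_relIndex, relIndex_inf_mul_relIndex, inf_comm]

/-- a union of orbits -/
theorem dvd_ncard {α : Type*} [Finite α] [MulAction Γ α] (D : Subgroup Γ) (T : Set α) (m : ℕ)
    (hT : ∀ g ∈ D, ∀ a ∈ T, g • a ∈ T) (hm : ∀ a ∈ T, m ∣ (MulAction.stabilizer Γ a).relIndex D) : m ∣ T.ncard := by
  induction hn : T.ncard using Nat.strong_induction_on generalizing T with
  | _ n ih =>
    rcases T.eq_empty_or_nonempty with rfl | ⟨a, ha⟩
    · rw [← hn, Set.ncard_empty]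
      exact dvd_zero _
    · let O : Set α := {b | ∃ g ∈ D, g • a = b}
      have hO : O ⊆ T := by
        rintro _ ⟨g, hg, rfl⟩
        exact hT g hg a ha
      have h1 : (T \ O).ncard + O.ncard = T.ncard := Set.ncard_sdiff_add_ncard_of_subset hO
      have h2 : 0 < O.ncard := (Set.ncard_pos).2 ⟨a, 1, D.one_mem, one_smul _ _⟩
      have h3 : m ∣ O.ncard := by
        rw [← relIndex_stabilizer D a]
        exact hm a ha
      rw [← hn, ← h1]
      refine dvd_add (ih _ (by omega) (T \ O) (fun g hg b hb => ⟨hT g hg b hb.1, ?_⟩) (fun b hb => hm b hb.1) rfl) h3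
      rintro ⟨h, hh, hb'⟩
      exact hb.2 ⟨g⁻¹ * h, D.mul_mem (D.inv_mem hg) hh, by rw [mul_smul, hb', inv_smul_smul]⟩

/-- a prime which divides the order of a normal subgroup and not the index of `A` -/
theorem dvd_card_inf [Finite Γ] (N A : Subgroup Γ) [N.Normal] {r : ℕ} (hr : r.Prime) (h1 : r ∣ Nat.card N)
    (h2 : ¬ r ∣ A.index) : r ∣ Nat.card ↥(N ⊓ A) := by
  obtain ⟨t, ht⟩ := relIndex_dvd_index_of_normal N A
  have h3 : Nat.card ↥(N ⊓ A) * N.relIndex A = Nat.card A := by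
    rw [relIndex, ← (N.subgroupOf A).card_mul_index, ← inf_subgroupOf_right,
      Nat.card_congr (subgroupOfEquivOfLe (inf_le_right : N ⊓ A ≤ A)).toEquiv]
  have h4 : Nat.card N * t * N.relIndex A = Nat.card ↥(N ⊓ A) * A.index * N.relIndex A := by
    rw [mul_assoc, mul_comm t, ← ht, N.card_mul_index, mul_right_comm, h3, A.card_mul_index]
  have h5 := Nat.eq_of_mul_eq_mul_right (Nat.pos_of_ne_zero FiniteIndex.index_ne_zero) h4
  have h6 : r ∣ Nat.card ↥(N ⊓ A) * A.index := h5 ▸ h1.mul_right t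
  exact (hr.dvd_mul.1 h6).resolve_right h2

/-- a cyclic group has at most one involution -/
theorem inv_unique [Finite Γ] {C : Subgroup Γ} (hC : IsCyclic C) {x y : Γ} (hx : x ∈ C) (hy : y ∈ C) (hx2 : x * x = 1)
    (hy2 : y * y = 1) (hx1 : x ≠ 1) (hy1 : y ≠ 1) : x = y := by
  classical
  have : Fintype C := Fintype.ofFinite _
  have h3 := IsCyclic.card_pow_eq_one_le (α := C) (n := 2) (by norm_num)
  by_contra hne
  have h4 : ({1, ⟨x, hx⟩, ⟨y, hy⟩} : Finset C) ⊆ Finset.univ.filter fun a : C => a ^ 2 = 1 := by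
    intro a ha
    rw [Finset.mem_filter]
    refine ⟨Finset.mem_univ _, ?_⟩
    simp only [Finset.mem_insert, Finset.mem_singleton] at ha
    rcases ha with rfl | rfl | rfl
    · exact one_pow _
    · exact Subtype.ext (by rw [pow_two]; exact hx2)
    · exact Subtype.ext (by rw [pow_two]; exact hy2)
  have h5 := Finset.card_le_card h4
  rw [Finset.card_eq_three.2 ⟨_, _, _, fun h => hx1 (congrArg Subtype.val h).symm,
    fun h => hy1 (congrArg Subtype.val h).symm, fun h => hne (congrArg Subtype.val h), rfl⟩] at h5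
  omega

end group

section arith

theorem even_dim {q k a : ℕ} (hq : 3 ≤ q) (hk : k + 1 ≤ 12) (h : q ^ 4 * (q ^ 4 - 1) ∣ q ^ k * a)
    (ha : a + 1 = q ^ (k + 1) ∨ a = q ^ (k + 1) + 1) : k = 7 ∨ k = 11 := by
  obtain ⟨y, hy⟩ : ∃ y, q ^ 4 = y + 1 := ⟨q ^ 4 - 1, by
    have := Nat.one_le_pow 4 q (by omega)
    omega⟩
  have hc : Nat.Coprime y q := by
    have h1 : Nat.Coprime y (q ^ 4) := by
      rw [hy]
      simp
    exact h1.coprime_dvd_right (dvd_pow_self q (by norm_num))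
  have h1 : y ∣ a := by
    refine (hc.pow_right k).dvd_of_dvd_mul_left (dvd_trans ?_ h)
    rw [hy, Nat.add_sub_cancel]
    exact dvd_mul_left _ _
  have hca : Nat.Coprime q a := by
    refine Nat.Coprime.coprime_dvd_left (dvd_pow_self q (Nat.succ_ne_zero k)) ?_
    rcases ha with ha | ha
    · rw [← ha]
      simp
    · rw [ha]
      simp
  have h2 : 4 ≤ k := by
    have h3 : q ^ 4 ∣ q ^ k := (hca.pow_left 4).dvd_of_dvd_mul_right ((dvd_mul_right _ _).trans h)
    exact (Nat.pow_dvd_pow_iff_le_right (by omega)).1 h3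
  have h3 : q ^ (k + 1) ≡ q ^ ((k + 1) % 4) [MOD y] := by
    have h4 : q ^ 4 ≡ 1 [MOD y] := by
      rw [hy]
      exact Nat.add_modEq_left
    conv_lhs => rw [← Nat.div_add_mod (k + 1) 4, pow_add, pow_mul]
    have h5 := (h4.pow ((k + 1) / 4)).mul_right (q ^ ((k + 1) % 4))
    rwa [one_pow, one_mul] at h5
  have h5 : q ^ ((k + 1) % 4) ≤ q ^ 3 := Nat.pow_le_pow_right (by omega) (by omega)
  have h6 : 3 * q ^ 3 ≤ q ^ 4 := by
    rw [show q ^ 4 = q * q ^ 3 by ring]
    exact Nat.mul_le_mul_right _ hq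
  have h7 : 2 ≤ q ^ 3 := le_trans (by omega) (Nat.le_self_pow (by norm_num) q)
  have h8 : a ≡ 0 [MOD y] := (Nat.modEq_zero_iff_dvd).2 h1
  have h9 : 1 ≤ q ^ ((k + 1) % 4) := Nat.one_le_pow _ _ (by omega)
  rcases ha with ha | ha
  · rw [← ha] at h3
    have h10 : 1 = q ^ ((k + 1) % 4) :=
      Nat.ModEq.eq_of_lt_of_lt (((h8.add_right 1).symm).trans h3) (by omega) (by omega)
    have h11 : (k + 1) % 4 = 0 := by
      rcases Nat.pow_eq_one.1 h10.symm with h | h
      · omega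
      · exact h
    omega
  · have h10 : 0 = q ^ ((k + 1) % 4) + 1 := by
      refine Nat.ModEq.eq_of_lt_of_lt (h8.symm.trans ?_) (by omega) (by omega)
      rw [ha]
      exact h3.add_right 1
    omega

end arith

variable {ι : Type} [Fintype ι] [DecidableEq ι] {K : Type} [Field K]

/-- the eigenspace -/
def eig (z : GL ι K) (c : K) : Submodule K (ι → K) where
  carrier := {w | (z : Matrix ι ι K) *ᵥ w = c • w}
  add_mem' := fun {a b} ha hb => by
    change _ *ᵥ _ = _ at ha hb ⊢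
    rw [mulVec_add, ha, hb, smul_add]
  zero_mem' := by
    change _ *ᵥ _ = _
    rw [mulVec_zero, smul_zero]
  smul_mem' := fun a w hw => by
    change _ *ᵥ _ = _ at hw ⊢
    rw [mulVec_smul, hw, smul_comm]

theorem mem_eig {z : GL ι K} {c : K} {w : ι → K} : w ∈ eig z c ↔ (z : Matrix ι ι K) *ᵥ w = c • w := Iff.rfl

theorem mul_act (g h : GL ι K) (w : ι → K) :
    ((g * h : GL ι K) : Matrix ι ι K) *ᵥ w = (g : Matrix ι ι K) *ᵥ ((h : Matrix ι ι K) *ᵥ w) := by
  rw [Units.val_mul, mulVec_mulVec]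

theorem one_act (w : ι → K) : ((1 : GL ι K) : Matrix ι ι K) *ᵥ w = w := by rw [Units.val_one, one_mulVec]

theorem eig_comm {z g : GL ι K} (h : g * z = z * g) {c : K} {w : ι → K} (hw : w ∈ eig z c) :
    (g : Matrix ι ι K) *ᵥ w ∈ eig z c := by
  rw [mem_eig, ← mul_act, ← h, mul_act, mem_eig.1 hw, mulVec_smul]

theorem add_mem_eig {z : GL ι K} (hz : z * z = 1) {c : K} (hc : c * c = 1) (x : ι → K) :
    x + c • (z : Matrix ι ι K) *ᵥ x ∈ eig z c := by
  rw [mem_eig, mulVec_add, mulVec_smul, ← mul_act, hz, one_act, smul_add, smul_smul, hc, one_smul, add_comm]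

theorem eig_compl (h2 : (2 : K) ≠ 0) {z : GL ι K} (hz : z * z = 1) : IsCompl (eig z 1) (eig z (-1)) := by
  constructor
  · rw [Submodule.disjoint_def]
    intro w h1 h3
    rw [mem_eig] at h1 h3
    have h4 : (2 : K) • w = 0 := by
      rw [h1, one_smul, neg_one_smul, eq_neg_iff_add_eq_zero] at h3
      rw [two_smul, h3]
    exact (smul_eq_zero.1 h4).resolve_left h2
  · rw [codisjoint_iff, eq_top_iff]
    intro w _
    have h1 := Submodule.add_mem_sup (add_mem_eig hz (one_mul 1) ((2 : K)⁻¹ • w))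
      (add_mem_eig hz (c := -1) (by ring) ((2 : K)⁻¹ • w))
    rwa [one_smul, neg_one_smul, add_add_add_comm, add_neg_cancel, add_zero, ← two_smul K, smul_smul,
      mul_inv_cancel₀ h2, one_smul] at h1

theorem finrank_eig (h2 : (2 : K) ≠ 0) {z : GL ι K} (hz : z * z = 1) :
    finrank K (eig z 1) + finrank K (eig z (-1)) = Fintype.card ι := by
  rw [Submodule.finrank_add_eq_of_isCompl (eig_compl h2 hz), Module.finrank_fintype_fun_eq_card]

theorem det_eq (h2 : (2 : K) ≠ 0) {z : GL ι K} (hz : z * z = 1) :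
    (z : Matrix ι ι K).det = (-1) ^ finrank K (eig z (-1)) := by
  let e := Submodule.prodEquivOfIsCompl _ _ (eig_compl h2 hz)
  have he : Matrix.toLin' (z : Matrix ι ι K) = (e : (eig z 1 × eig z (-1)) →ₗ[K] (ι → K)) ∘ₗ
      ((LinearMap.id : eig z 1 →ₗ[K] eig z 1).prodMap ((-1 : K) • (LinearMap.id : eig z (-1) →ₗ[K] eig z (-1)))) ∘ₗ
      (e.symm : (ι → K) →ₗ[K] (eig z 1 × eig z (-1))) := by
    refine LinearMap.ext fun v => ?_
    obtain ⟨p, rfl⟩ := e.surjective v
    have h3 : ∀ x : eig z 1 × eig z (-1), e x = (x.1 : ι → K) + (x.2 : ι → K) := fun _ => rfl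
    simp only [LinearMap.comp_apply, LinearEquiv.coe_coe, LinearEquiv.symm_apply_apply, LinearMap.prodMap_apply]
    rw [h3, h3, Matrix.toLin'_apply, mulVec_add, mem_eig.1 p.1.2, mem_eig.1 p.2.2]
    simp
  rw [← LinearMap.det_toLin', he, LinearMap.det_conj, LinearMap.det_prodMap, LinearMap.det_id, one_mul,
    LinearMap.det_smul, LinearMap.det_id, mul_one]

theorem even_eig (h2 : (2 : K) ≠ 0) {z : GL ι K} (hz : z * z = 1) (hd : (z : Matrix ι ι K).det = 1) :
    Even (finrank K (eig z (-1))) := by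
  by_contra h
  rw [det_eq h2 hz, (Nat.not_even_iff_odd.1 h).neg_one_pow] at hd
  exact h2 (by linear_combination -hd)

theorem finrank_conj_le (g z : GL ι K) (c : K) : finrank K (eig z c) ≤ finrank K (eig (g * z * g⁻¹) c) := by
  let e := LieClassical.OrthFinite.glEquiv ι K g
  rw [← LinearEquiv.finrank_map_eq e (eig z c)]
  refine Submodule.finrank_mono ?_
  rintro _ ⟨w, hw, rfl⟩
  change _ *ᵥ ((g : Matrix ι ι K) *ᵥ w) = c • ((g : Matrix ι ι K) *ᵥ w)
  rw [← mul_act, inv_mul_cancel_right, mul_act, mem_eig.1 hw, mulVec_smul]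

theorem finrank_conj {z z' : GL ι K} (h : IsConj z' z) (c : K) : finrank K (eig z' c) = finrank K (eig z c) := by
  obtain ⟨g, rfl⟩ := isConj_iff.1 h
  refine le_antisymm (finrank_conj_le g z' c) ?_
  have := finrank_conj_le g⁻¹ (g * z' * g⁻¹) c
  rwa [show g⁻¹ * (g * z' * g⁻¹) * g⁻¹⁻¹ = z' by group] at this

theorem inf_le_eig (z w : GL ι K) : eig z (-1) ⊓ eig w (-1) ≤ eig (z * w) 1 := by
  rintro x ⟨h1, h2⟩
  rw [mem_eig, mul_act, mem_eig.1 h2, mulVec_smul, mem_eig.1 h1, smul_smul]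
  simp

theorem eq_one_of_eig (h2 : (2 : K) ≠ 0) {z : GL ι K} (hz : z * z = 1) (h : finrank K (eig z (-1)) = 0) : z = 1 := by
  have h1 := finrank_eig h2 hz
  rw [h, add_zero, ← Module.finrank_fintype_fun_eq_card K] at h1
  have h3 := Submodule.eq_top_of_finrank_eq h1
  apply Units.ext
  apply Matrix.toLin'.injective
  refine LinearMap.ext fun v => ?_
  have h4 : v ∈ eig z 1 := h3 ▸ Submodule.mem_top
  rw [Matrix.toLin'_apply, Matrix.toLin'_apply, mem_eig.1 h4, one_smul, one_act]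

variable [Fintype K] {Q : (ι → K) → K}

theorem eig_nd (hQ : IsNondegenerateQuadraticForm Q) (h2 : (2 : K) ≠ 0) {z : GL ι K} (hz : z * z = 1)
    (hi : z ∈ isometryGroup K Q) {c : K} (hc : c * c = 1) : IsNondegenerateOn (polar Q) (eig z c) := by
  intro w hw h0
  have : ∃ x ∈ eig z c, polar Q w x ≠ 0 := by
    obtain ⟨x, hx⟩ : ∃ x, polar (qf hQ) w x ≠ 0 := by
      by_contra h
      push Not at h
      exact h0 (nondeg_qf hQ w h)
    refine ⟨_, add_mem_eig hz hc x, ?_⟩
    have h3 : polar (qf hQ) ((z : Matrix ι ι K) *ᵥ w) ((z : Matrix ι ι K) *ᵥ x) = polar (qf hQ) w x := polar_iso hi w x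
    rw [mem_eig.1 hw, polar_smul_left] at h3
    change polar (qf hQ) w _ ≠ 0
    rw [polar_add_right, polar_smul_right, h3, ← two_mul]
    exact mul_ne_zero h2 hx
  obtain ⟨x, hx, hne⟩ := this
  exact ⟨⟨x, hx, by rwa [polar_comm]⟩, x, hx, hne⟩

/-- the exact count in even dimension -/
theorem ncard_even (hQ : IsNondegenerateQuadraticForm Q) {U : Submodule K (ι → K)}
    (hU : IsNondegenerateOn (polar Q) U) {k : ℕ} (hd : finrank K U = 2 * (k + 1)) {c : K} (hc : c ≠ 0) :
    ∃ a, {w | w ∈ U ∧ Q w = c}.ncard = Fintype.card K ^ k * a ∧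
      (a + 1 = Fintype.card K ^ (k + 1) ∨ a = Fintype.card K ^ (k + 1) + 1) := by
  rw [ncard_res hQ, ← Nat.card_eq_fintype_card]
  by_cases hP : H955.IsPlus (H955.res (qf hQ) U)
  · refine ⟨_, card_norm_plus' (nondeg_res hQ hU) hd hP hc, Or.inl ?_⟩
    exact Nat.sub_add_cancel (Nat.one_le_pow _ _ Nat.card_pos)
  · exact ⟨_, card_norm_minus' (nondeg_res hQ hU) hd hP hc, Or.inr rfl⟩

/-- `Y` with `-1` -/
def pm (Y : Subgroup (GL ι K)) : Subgroup (GL ι K) where
  carrier := {g | g ∈ Y ∨ -g ∈ Y}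
  one_mem' := Or.inl Y.one_mem
  mul_mem' := by
    rintro a b (ha | ha) (hb | hb)
    · exact Or.inl (Y.mul_mem ha hb)
    · exact Or.inr (by rw [← mul_neg]; exact Y.mul_mem ha hb)
    · exact Or.inr (by rw [← neg_mul]; exact Y.mul_mem ha hb)
    · exact Or.inl (by rw [← neg_mul_neg]; exact Y.mul_mem ha hb)
  inv_mem' := by
    rintro a (ha | ha)
    · exact Or.inl (Y.inv_mem ha)
    · exact Or.inr (by rw [← inv_neg]; exact Y.inv_mem ha)

theorem mem_pm {Y : Subgroup (GL ι K)} {g : GL ι K} : g ∈ pm Y ↔ g ∈ Y ∨ -g ∈ Y := Iff.rfl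

theorem neg_act (g : GL ι K) (w : ι → K) : ((-g : GL ι K) : Matrix ι ι K) *ᵥ w = -((g : Matrix ι ι K) *ᵥ w) := by
  rw [Units.val_neg, neg_mulVec]

theorem pm_le (hQ : IsNondegenerateQuadraticForm Q) {Y : Subgroup (GL ι K)} (hY : Y ≤ isometryGroup K Q) :
    pm Y ≤ isometryGroup K Q := by
  rintro g (hg | hg)
  · exact hY hg
  · refine H925.mem_iso_iff.2 fun w => ?_
    have h1 := H925.mem_iso_iff.1 (hY hg) w
    rwa [neg_act, ← neg_one_smul K, hQ.smul, neg_one_sq, one_mul] at h1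

/-- an isometry which keeps a non-singular point -/
theorem pm_of_point (hQ : IsNondegenerateQuadraticForm Q) {g : GL ι K} (hg : g ∈ isometryGroup K Q) {v : ι → K}
    (hv : Q v ≠ 0) (h : g ∈ subspaceStabilizer (Submodule.span K {v})) :
    (g : Matrix ι ι K) *ᵥ v = v ∨ ((-g : GL ι K) : Matrix ι ι K) *ᵥ v = v := by
  obtain ⟨c, hc⟩ := mem_stab_point.1 h
  have h1 := H925.mem_iso_iff.1 hg v
  rw [hc, hQ.smul, pow_two] at h1
  rcases mul_self_eq_one_iff.1 (mul_right_cancel₀ hv (h1.trans (one_mul _).symm)) with rfl | rfl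
  · exact Or.inl (by rw [hc, one_smul])
  · exact Or.inr (by rw [neg_act, hc, neg_one_smul, neg_neg])

end Cfsg.Agent.SM.CS.Ff
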