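import Cfsg.Agent.H557.InvF4
import Cfsg.Agent.H56.Exc.BigRows
import Cfsg.Agent.S1062
import Cfsg.Agent.S2122

/-!
# SM (S3570), box CS-F: the facts on `F₄(q)`, `q` odd (helper61)
-/

set_option autoImplicit false

namespace Cfsg.Agent.SM.CS.Ff

open Cfsg Cfsg.Lie Subgroup Cfsg.Agent.H56.Exc

/-- an involution `z` with centraliser of index `q ^ 8 (q ^ 8 + q ^ 4 + 1)`, two conjugates `w`, `z w`, a big prime `r` -/
structure Fq (T : Type) [Group T] (q : ℕ) (z w : T) (r : ℕ) : Prop where
  sq : z * z = 1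
  ne : z ≠ 1
  cw : IsConj w z
  czw : IsConj (z * w) z
  idx : (centralizer {z}).index = q ^ 8 * (q ^ 8 + q ^ 4 + 1)
  cls : ∀ φ : MulAut T, IsConj (φ z) z
  big : Big T r (q ^ 4 + 1) 8
  dvd : r ∣ Nat.card T
  ndvd : ¬ r ∣ q ^ 12 * (q ^ 12 - 1)
  aut : Nat.card (MulAut T) ≤ q * Nat.card T

theorem comap_cent {T T' : Type} [Group T] [Group T'] (e : T ≃* T') (z : T) :
    (centralizer {e z}).comap e.toMonoidHom = centralizer {z} := by
  ext x
  rw [mem_comap, mem_centralizer_singleton_iff, mem_centralizer_singleton_iff]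
  change e x * e z = e z * e x ↔ _
  rw [← map_mul, ← map_mul, e.injective.eq_iff]

theorem index_cent {T T' : Type} [Group T] [Group T'] (e : T ≃* T') (z : T) :
    (centralizer {e z}).index = (centralizer {z}).index := by
  rw [← comap_cent e z, index_comap_of_surjective _ e.surjective]

theorem Fq.congr {T T' : Type} [Group T] [Group T'] [Finite T] {q r : ℕ} {z w : T} (h : Fq T q z w r) (e : T ≃* T') :
    Fq T' q (e z) (e w) r where
  sq := by rw [← map_mul, h.sq, map_one]
  ne := fun h1 => h.ne (e.injective (by rw [h1, map_one]))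
  cw := e.toMonoidHom.map_isConj h.cw
  czw := by
    rw [← map_mul]
    exact e.toMonoidHom.map_isConj h.czw
  idx := by rw [index_cent, h.idx]
  cls := fun φ => by
    have := e.toMonoidHom.map_isConj (h.cls ((e.trans φ).trans e.symm))
    simpa using this
  big := h.big.congr e
  dvd := by
    rw [← Nat.card_congr e.toEquiv]
    exact h.dvd
  ndvd := h.ndvd
  aut := by
    rw [← Nat.card_congr e.toEquiv, ← Nat.card_congr (MulAut.congr e).toEquiv]
    exact h.aut

theorem card_mulAut_le (L : Type) [Group L] [Finite L] : Nat.card (MulAut L) ≤ Nat.card (Out L) * Nat.card L := by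
  have h2 : Nat.card (Out L) * Nat.card (Inn L) = Nat.card (MulAut L) :=
    (Subgroup.card_eq_card_quotient_mul_card_subgroup _).symm
  rw [← h2]
  refine Nat.mul_le_mul_left _ ?_
  exact Nat.card_le_card_of_surjective (MulAut.conj : L →* MulAut L).rangeRestrict
    (MonoidHom.rangeRestrict_surjective _)

open Cfsg.Agent.ChevalleyStructure Cfsg.Agent.ChevalleyStructure.CoxeterGeomTypes
  Cfsg.Agent.Nodes.RGDChev Cfsg.Agent.KFacts.RgdChevCoord Cfsg.Agent.OddHalf.NI.ModelChev
  Cfsg.Agent.H557.SubTab Cfsg.Agent.H557.SubLink Cfsg.Agent.H557.SignTorus Cfsg.Agent.H557.InvClass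
  Cfsg.Agent.H557.ToralTypes Cfsg.Agent.H557.LinkF4 Cfsg.Agent.H557.OrbF4 Cfsg.Agent.H557.InvF4 Cfsg.Agent.H557

/-- the four-group -/
theorem four {K : Type} [Field K] [Fintype K] (ho : Odd (Fintype.card K)) :
    ∃ z w : ↥(chevF4.group K), orderOf z = 2 ∧ IsConj w z ∧ IsConj (z * w) z ∧
      Nat.card (centralizer ({z} : Set ↥(chevF4.group K))) =
        Fintype.card K ^ TabB4.tab.m * (([2, 4, 6, 8] : List ℕ).map fun d => Fintype.card K ^ d - 1).prod := by
  obtain ⟨p, hpp, hpc, hp2⟩ := exists_char K ho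
  have : Fact p.Prime := ⟨hpp⟩
  have h2 : (2 : K) ≠ 0 := by
    intro h
    have h3 : p ∣ 2 := (CharP.cast_eq_zero_iff K p 2).1 (by exact_mod_cast h)
    have h4 := (Nat.prime_dvd_prime_iff_eq hpp Nat.prime_two).1 h3
    rw [h4] at hp2
    exact absurd hp2 (by decide)
  have hW : Finite (CoxeterMatrix.F₄).Group := Nat.finite_of_card_ne_zero (by rw [cardW]; norm_num)
  have hc1 : Nat.card (chevF4.diagonalSubgroup K) = (Nat.card K - 1) ^ 4 := by
    have := Cfsg.Agent.S1035.result (F := K) rfl (chevF4, 1) (by simp)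
    rw [Nat.card_eq_fintype_card (α := K)]
    rwa [one_mul] at this
  have hT : Nat.card ↥(TT chevF4 K) = (Nat.card K - 1) ^ 4 := by
    rw [← hc1]
    exact Nat.card_congr (Subgroup.subgroupOfEquivOfLe
      (Cfsg.Agent.ChevalleyStructure.Elts.diagonal_le_group (Nodes.KindF.isType).inList K)).toEquiv
  have hc := D_TabB4.card_cent hcm (K := K) p h2 inj_F4 hT
  have h1 := D_TabB4.conj hcm (K := K) p (m := 1) (by decide)
  have h3 := D_TabB4.conj hcm (K := K) p (m := 3) (by decide)
  refine ⟨_, _, order_sg h2 inj_F4 D_TabB4.n_lt D_TabB4.n_ne, h1, ?_, ?_⟩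
  · rw [← map_mul]
    have h4 : sg K 4 n_TabB4 * sg K 4 1 = sg K 4 3 := by
      funext k
      fin_cases k <;> simp [sg, n_TabB4, Nat.testBit]
    rw [h4]
    exact h3
  · rw [← Nat.card_eq_fintype_card]
    exact hc

/-- **the facts** -/
theorem fq {K : Type} [Field K] [Fintype K] {q : ℕ} (hq : Fintype.card K = q) (ho : Odd q) :
    ∃ z w r, Fq ↥(chevF4.group K) q z w r := by
  subst hq
  obtain ⟨z, w, hz, hw, hzw, hc⟩ := four ho
  obtain ⟨s, t, -, -, -, hst, hs, ht⟩ := InvF4.main ho
  have hq2 : 2 ≤ Fintype.card K := Fintype.one_lt_card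
  have hm1 : TabB4.tab.m = 16 := by decide +kernel
  have hm2 : TabC3A1.tab.m = 10 := by decide +kernel
  rw [hm1] at hc hs
  rw [hm2] at ht
  have key : ∀ u : ↥(chevF4.group K), orderOf u = 2 → Nat.card (centralizer ({u} : Set ↥(chevF4.group K))) =
      Nat.card (centralizer ({z} : Set ↥(chevF4.group K))) → IsConj u s := by
    intro u hu h
    refine (hst u hu).resolve_right fun h1 => ?_
    rw [card_centralizer_conj h1, ht, hc] at h
    exact pow_ne hq2 (cop (by omega) _ (by simp)) (by norm_num) h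
  obtain ⟨r, hr⟩ := H436.exists_prim (q := Fintype.card K) (e := 8) hq2 (by norm_num) (by omega)
  have hT := S1062.result (F := K) rfl
  have hfin : Finite ↥(chevF4.group K) := inferInstance
  have hidx : (centralizer ({z} : Set ↥(chevF4.group K))).index =
      Fintype.card K ^ 8 * (Fintype.card K ^ 8 + Fintype.card K ^ 4 + 1) := by
    have h1 := (centralizer ({z} : Set ↥(chevF4.group K))).card_mul_index
    have h0 : 0 < Nat.card (centralizer ({z} : Set ↥(chevF4.group K))) := Nat.card_pos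
    refine Nat.eq_of_mul_eq_mul_left h0 ?_
    rw [h1, hT, hc]
    generalize Fintype.card K = q at hq2
    have h3 : q ^ 12 - 1 = (q ^ 4 - 1) * (q ^ 8 + q ^ 4 + 1) := by
      obtain ⟨y, hy⟩ : ∃ y, q ^ 4 = y + 1 := ⟨q ^ 4 - 1, by
        have := Nat.one_le_pow 4 q (by omega)
        omega⟩
      rw [show q ^ 12 = (q ^ 4) ^ 3 by ring, show q ^ 8 = (q ^ 4) ^ 2 by ring, hy, Nat.add_sub_cancel]
      exact Nat.sub_eq_of_eq_add (by ring)
    rw [h3]
    simp only [List.map_cons, List.map_nil, List.prod_cons, List.prod_nil]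
    ring
  refine ⟨z, w, r, by rw [← pow_two, ← hz, pow_orderOf_eq_one], ?_, hw, hzw, hidx, fun φ => ?_,
    big_F4_8 rfl (by push_cast; ring) hr, ?_, ?_, ?_⟩
  · rintro rfl
    rw [orderOf_one] at hz
    omega
  · refine (key _ (by rw [← hz]; exact φ.orderOf_eq z) ?_).trans (key z hz rfl).symm
    have h1 := (centralizer ({z} : Set ↥(chevF4.group K))).card_mul_index
    have h3 := (centralizer ({φ z} : Set ↥(chevF4.group K))).card_mul_index
    rw [index_cent φ z, ← h1] at h3
    exact Nat.eq_of_mul_eq_mul_right (Nat.pos_of_ne_zero FiniteIndex.index_ne_zero) h3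
  · rw [hT]
    exact ((hr.dvd dvd_rfl).mul_left _).mul_right _
  · intro h
    rcases hr.prime.dvd_mul.1 h with h | h
    · exact hr.not_dvd_pow _ h
    · exact hr.not_dvd_sub (by norm_num) h
  · obtain ⟨p, hpc⟩ := CharP.exists K
    obtain ⟨f, hp, hf⟩ := FiniteField.card K p
    have : Fact p.Prime := ⟨hp⟩
    refine (card_mulAut_le _).trans (Nat.mul_le_mul_right _ ?_)
    rw [S2122.result p f hf]
    have hp2 : Nat.gcd 2 p = 1 := by
      rw [hf] at ho
      exact Nat.coprime_two_left.2 ((Nat.odd_pow_iff f.ne_zero).1 ho)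
    rw [hp2, one_mul, hf]
    exact (Nat.lt_pow_self hp.one_lt).le

end Cfsg.Agent.SM.CS.Ff
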