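import Cfsg.Agent.SM.CS.Defs
import Cfsg.Agent.SM.CSf.Four
import Cfsg.Agent.SM.CSf.Eig

/-!
# SM (S3570), box CS-F: `F₄(q) < Ω₂₅(q)`, the stabiliser centralises a canonical involution (helper61)
-/

set_option autoImplicit false
set_option linter.unusedSectionVars false

namespace Cfsg.Agent.SM.CS

namespace Ff

open Module QuadraticMap Matrix Subgroup
open Cfsg Cfsg.Geo Cfsg.Agent.SM.CS.Ix
open Cfsg.Agent.H925 (qf nondeg_qf)

theorem num_eq {q : ℕ} (hq : 1 ≤ q) :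
    q ^ 12 * (q ^ 12 - 1) = q ^ 4 * (q ^ 4 - 1) * (q ^ 8 * (q ^ 8 + q ^ 4 + 1)) := by
  have h3 : q ^ 12 - 1 = (q ^ 4 - 1) * (q ^ 8 + q ^ 4 + 1) := by
    obtain ⟨y, hy⟩ : ∃ y, q ^ 4 = y + 1 := ⟨q ^ 4 - 1, by
      have := Nat.one_le_pow 4 q (by omega)
      omega⟩
    rw [show q ^ 12 = (q ^ 4) ^ 3 by ring, show q ^ 8 = (q ^ 4) ^ 2 by ring, hy, Nat.add_sub_cancel]
    exact Nat.sub_eq_of_eq_add (by ring)
  rw [h3]
  ring

variable {ι : Type} [Fintype ι] [DecidableEq ι] {K : Type} [Field K] [Fintype K] {Q : (ι → K) → K}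

theorem pm_norm {Y P : Subgroup (GL ι K)} (hn : ∀ h ∈ Y, ∀ x ∈ P, h * x * h⁻¹ ∈ P) :
    pm Y ≤ normalizer (P : Set (GL ι K)) := by
  have key : ∀ h ∈ pm Y, ∀ x ∈ P, h * x * h⁻¹ ∈ P := by
    rintro h (hh | hh) x hx
    · exact hn h hh x hx
    · have := hn _ hh x hx
      rwa [inv_neg, neg_mul, neg_mul_neg] at this
  intro g hg
  rw [mem_normalizer_iff]
  refine fun x => ⟨key g hg x, fun hx => ?_⟩
  have := key g⁻¹ ((pm Y).inv_mem hg) _ hx
  rwa [show g⁻¹ * (g * x * g⁻¹) * g⁻¹⁻¹ = x by group] at this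

theorem det_of_perfect {H : Subgroup (GL ι K)} (h : ⁅H, H⁆ = H) {g : GL ι K} (hg : g ∈ H) : (g : Matrix ι ι K).det = 1 := by
  have h1 : ⁅H, H⁆ ≤ (Matrix.GeneralLinearGroup.det : GL ι K →* Kˣ).ker := by
    rw [Subgroup.commutator_le]
    intro a _ b _
    rw [MonoidHom.mem_ker, map_commutatorElement, commutatorElement_eq_one_iff_mul_comm, mul_comm]
  rw [h] at h1
  exact congrArg Units.val (MonoidHom.mem_ker.1 (h1 hg))

/-- **the count**: the stabiliser of a vector of the fixed space centralises `z` -/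
theorem core (hQ : IsNondegenerateQuadraticForm Q) {q : ℕ} (hK : Fintype.card K = q) (hq : Odd q)
    (hd : Fintype.card ι = 25) {Y P : Subgroup (GL ι K)} (hY : Y ≤ isometryGroup K Q) (hPY : P ≤ Y)
    (hn : ∀ h ∈ Y, ∀ x ∈ P, h * x * h⁻¹ ∈ P) (hperf : ⁅P, P⁆ = P) {v₀ : ι → K} (hv₀ : Q v₀ ≠ 0)
    (htr : ∀ u, Q u = Q v₀ → ∃ y ∈ pm Y, (y : Matrix ι ι K) *ᵥ v₀ = u)
    (hS : {u | Q u = Q v₀}.ncard = q ^ 12 * (q ^ 12 - 1)) {z w : P} {r : ℕ} (h : Fq P q z w r) :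
    ∃ v, Q v = Q v₀ ∧ ((z : GL ι K) : Matrix ι ι K) *ᵥ v = v ∧
      ∀ g ∈ pm Y, (g : Matrix ι ι K) *ᵥ v = v → g * z = z * g := by
  have hq' : Odd (Fintype.card K) := hK ▸ hq
  have h2 : (2 : K) ≠ 0 := two_ne_zero_of_odd hq'
  have hq3 : 3 ≤ q := by
    have : 2 ≤ q := hK ▸ Fintype.one_lt_card
    obtain ⟨k, rfl⟩ := hq
    omega
  have hY' := pm_le hQ hY
  have hPi : ∀ x : P, (x : GL ι K) ∈ isometryGroup K Q := fun x => hY (hPY x.2)
  have hzz : (z : GL ι K) * z = 1 := congrArg Subtype.val h.sq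
  let C := centralizer {(z : GL ι K)}
  let D := C ⊓ pm Y
  have hN : C.relIndex P = q ^ 8 * (q ^ 8 + q ^ 4 + 1) := by
    rw [← h.idx, relIndex]
    congr 1
    ext x
    rw [mem_subgroupOf, mem_centralizer_singleton_iff, mem_centralizer_singleton_iff, Subtype.ext_iff]
    rfl
  have hN' : C.relIndex (pm Y) = q ^ 8 * (q ^ 8 + q ^ 4 + 1) := by
    rw [← hN, relIndex_cent, relIndex_cent]
    congr 1
    ext b
    constructor
    · rintro ⟨g, hg, rfl⟩
      obtain ⟨c, hc⟩ := isConj_iff.1 (h.cls (P.normalizerMonoidHom ⟨g, pm_norm hn hg⟩)).symm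
      exact ⟨c, c.2, congrArg Subtype.val hc⟩
    · rintro ⟨g, hg, rfl⟩
      exact ⟨g, Or.inl (hPY hg), rfl⟩
  have hst : ∀ u, Q u = Q v₀ → (MulAction.stabilizer (GL ι K) u).relIndex (pm Y) = q ^ 12 * (q ^ 12 - 1) := by
    intro u hu
    rw [← hS, relIndex_stabilizer]
    congr 1
    ext b
    constructor
    · rintro ⟨g, hg, rfl⟩
      exact (H925.mem_iso_iff.1 (hY' hg) u).trans hu
    · intro hb
      obtain ⟨y, hy, hyu⟩ := htr u hu
      obtain ⟨y', hy', hyb⟩ := htr b hb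
      refine ⟨y' * y⁻¹, (pm Y).mul_mem hy' ((pm Y).inv_mem hy), ?_⟩
      have h3 : y • v₀ = u := hyu
      rw [mul_smul, ← h3, inv_smul_smul]
      exact hyb
  have hj : ∀ u, Q u = Q v₀ → (MulAction.stabilizer (GL ι K) u).relIndex D =
      C.relIndex (MulAction.stabilizer (GL ι K) u ⊓ pm Y) * (q ^ 4 * (q ^ 4 - 1)) := by
    intro u hu
    have h3 := relIndex_swap (MulAction.stabilizer (GL ι K) u) C (pm Y)
    rw [hN', hst u hu, num_eq (by omega), ← mul_assoc _ (q ^ 4 * (q ^ 4 - 1))] at h3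
    exact Nat.eq_of_mul_eq_mul_right (m := q ^ 8 * (q ^ 8 + q ^ 4 + 1)) (by positivity) h3
  have hD : ∀ c : K, ∀ g ∈ D, ∀ u ∈ {u | u ∈ eig (z : GL ι K) c ∧ Q u = Q v₀},
      g • u ∈ {u | u ∈ eig (z : GL ι K) c ∧ Q u = Q v₀} := fun c g hg u hu =>
    ⟨eig_comm (mem_centralizer_singleton_iff.1 hg.1) hu.1, (H925.mem_iso_iff.1 (hY' hg.2) u).trans hu.2⟩
  have hsum := finrank_eig h2 hzz
  rw [hd] at hsum
  obtain ⟨k, hk⟩ : ∃ k, finrank K (eig (z : GL ι K) (-1)) = 2 * (k + 1) := by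
    obtain ⟨d, hd'⟩ := even_eig h2 hzz (det_of_perfect hperf z.2)
    have h3 : finrank K (eig (z : GL ι K) (-1)) ≠ 0 := fun h0 => h.ne (Subtype.ext (eq_one_of_eig h2 hzz h0))
    exact ⟨d - 1, by omega⟩
  obtain ⟨a, ha, ha'⟩ := ncard_even hQ (eig_nd hQ h2 hzz (hPi z) (c := -1) (by ring)) hk hv₀
  have h3 := dvd_ncard D _ (q ^ 4 * (q ^ 4 - 1)) (hD (-1)) fun u hu => by
    rw [hj u hu.2]
    exact dvd_mul_left _ _
  rw [ha, hK] at h3
  rw [hK] at ha'
  have h9 : finrank K (eig (z : GL ι K) 1) = 2 * 4 + 1 := by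
    rcases even_dim hq3 (by omega) h3 ha' with rfl | rfl
    · omega
    · exfalso
      have h4 : finrank K (eig (w : GL ι K) (-1)) = finrank K (eig (z : GL ι K) (-1)) :=
        finrank_conj (P.subtype.map_isConj h.cw) (-1)
      have h5 : finrank K (eig ((z : GL ι K) * (w : GL ι K)) 1) = finrank K (eig (z : GL ι K) 1) :=
        finrank_conj (P.subtype.map_isConj h.czw) 1
      have h6 := Submodule.finrank_sup_add_finrank_inf_eq (eig (z : GL ι K) (-1)) (eig (w : GL ι K) (-1))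
      have h7 := Submodule.finrank_le (eig (z : GL ι K) (-1) ⊔ eig (w : GL ι K) (-1))
      have h8 := Submodule.finrank_mono (inf_le_eig (z : GL ι K) (w : GL ι K))
      rw [Module.finrank_fintype_fun_eq_card, hd] at h7
      omega
  have hnd := eig_nd hQ h2 hzz (hPi z) (c := 1) (by ring)
  obtain ⟨v, hv, hvQ⟩ := exists_norm hQ hq' hnd (by omega) (Q v₀)
  have h4 := ncard_le_odd hQ hq' hnd h9 hv₀
  have h5 : (MulAction.stabilizer (GL ι K) v).relIndex D ≤ {u | u ∈ eig (z : GL ι K) 1 ∧ Q u = Q v₀}.ncard := by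
    rw [relIndex_stabilizer]
    refine Set.ncard_le_ncard ?_
    rintro _ ⟨g, hg, rfl⟩
    exact hD 1 g hg v ⟨hv, hvQ⟩
  rw [hj v hvQ] at h5
  rw [hK] at h4
  have h6 : C.relIndex (MulAction.stabilizer (GL ι K) v ⊓ pm Y) = 1 := by
    have h7 : C.relIndex (MulAction.stabilizer (GL ι K) v ⊓ pm Y) ≠ 0 := FiniteIndex.index_ne_zero
    by_contra h8
    have h10 : 2 * (q ^ 4 * (q ^ 4 - 1)) ≤ q ^ 4 * (q ^ 4 + 1) :=
      (Nat.mul_le_mul_right _ (by omega)).trans (h5.trans h4)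
    have h11 : 3 ^ 4 ≤ q ^ 4 := Nat.pow_le_pow_left hq3 4
    rw [mul_left_comm] at h10
    have h12 := Nat.le_of_mul_le_mul_left h10 (by omega)
    omega
  refine ⟨v, hvQ, by rw [mem_eig.1 hv, one_smul], fun g hg hgv => ?_⟩
  exact mem_centralizer_singleton_iff.1 (relIndex_eq_one.1 h6 ⟨hgv, hg⟩)

/-- no scalars in `Ω`, odd dimension -/
theorem scalar_eq_one (hQ : IsNondegenerateQuadraticForm Q) (hd : Fintype.card ι = 25) {v : ι → K} (hv : Q v ≠ 0)
    {g : GL ι K} (hg : g ∈ omegaGL Q) (hs : g ∈ scalars ι K) : g = 1 := by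
  obtain ⟨c, hc⟩ := (mem_scalars_iff g).1 hs
  have h1 := H925.mem_iso_iff.1 (H925.omegaGL_le_iso Q hg) v
  rw [hc, smul_mulVec, one_mulVec, hQ.smul] at h1
  have h2 : (c : K) ^ 2 = 1 := mul_right_cancel₀ hv (h1.trans (one_mul _).symm)
  have h3 := det_of_perfect (H925.omegaGL_perfect hQ (by omega)) hg
  rw [hc, det_smul, det_one, mul_one, hd, show 25 = 2 * 12 + 1 by norm_num, pow_succ, pow_mul, h2, one_pow,
    one_mul] at h3
  apply Units.ext
  rw [hc, h3, one_smul, Units.val_one]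

end Ff

open Module QuadraticMap Matrix Subgroup
open Cfsg Cfsg.Geo Cfsg.Agent.SM.CS.Ix Ff
open Cfsg.Agent.H925 (qf nondeg_qf)

/-- **[CS-F]** -/
theorem boxF : BoxF := by
  intro n K _ _ k q m B Sg G X Y P hy ⟨hk, hm, F, _, _, hF, ⟨e₀⟩⟩
  subst hk hm
  have hidx : X.relIndex Y * 2 = q ^ 12 * (q ^ 12 - 1) := hy.idx
  obtain ⟨⟨-, core', le, -, fac, -⟩, sph, -, -, -, -, -, -⟩ := hy
  cases sph with
  | o Q hQ hK hq hd W h24 hn hW =>
  have hd' : Fintype.card (Fin n) = 25 := hd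
  have hq' : Odd (Fintype.card K) := hK ▸ hq
  have h2 : (2 : K) ≠ 0 := two_ne_zero_of_odd hq'
  have hq3 : 3 ≤ q := by
    have : 2 ≤ q := hK ▸ Fintype.one_lt_card
    obtain ⟨k, rfl⟩ := hq
    omega
  obtain ⟨v₀, hv₀, hpole⟩ := exists_pole hQ (W := W) (by omega) hn
  have hGi := H925.omegaGL_le_iso Q
  have hY : Y ≤ isometryGroup K Q := le.trans hGi
  have hX : ∀ g ∈ isometryGroup K Q, g ∈ subspaceStabilizer W ↔ g ∈ subspaceStabilizer (Submodule.span K {v₀}) :=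
    fun g hg => stab_pole hQ hpole hg
  have hsc : ∀ g ∈ Y, g ∈ scalars (Fin n) K → g = 1 := fun g hg => scalar_eq_one hQ hd' hv₀ (le hg)
  let e : P ≃* H915.LD.Soc P := MulEquiv.ofBijective (H915.LD.toSoc P) ⟨by
    rw [← MonoidHom.ker_eq_bot_iff, H915.LD.ker_toSoc, eq_bot_iff]
    intro x hx
    exact mem_bot.2 (Subtype.ext (hsc _ (core'.le x.2) hx)), H915.LD.toSoc_surjective P⟩
  have he : ∀ x : P, e x = QuotientGroup.mk x := fun _ => rfl
  obtain ⟨z₁, w₁, r, hfq⟩ := fq hF hq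
  have hfin : Finite ↥(Lie.chevF4.group F) := inferInstance
  have hf₂ := hfq.congr (e.trans e₀).symm
  have htr : ∀ u, Q u = Q v₀ → ∃ y ∈ pm Y, (y : Matrix (Fin n) (Fin n) K) *ᵥ v₀ = u := by
    intro u hu
    have h3 : u ∈ orb (omegaGL Q) v₀ := by
      rw [orb_omega hQ (by omega) hv₀]
      exact hu
    obtain ⟨g, hg, hgu⟩ := h3
    obtain ⟨y, hy, x, hx, rfl⟩ := fac g hg
    have hxi : x ∈ isometryGroup K Q := by
      have := (isometryGroup K Q).mul_mem ((isometryGroup K Q).inv_mem (hY hy)) (hGi hg)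
      rwa [inv_mul_cancel_left] at this
    rw [mul_act] at hgu
    rcases pm_of_point hQ hxi hv₀ ((hX x hxi).1 hx) with h4 | h4
    · exact ⟨y, Or.inl hy, by rw [← hgu, h4]⟩
    · refine ⟨-y, Or.inr (by rwa [neg_neg]), ?_⟩
      rw [neg_act] at h4
      rw [← hgu, neg_act, ← mulVec_neg, ← h4, neg_neg, h4]
  have hS : {u | Q u = Q v₀}.ncard = q ^ 12 * (q ^ 12 - 1) := by
    have hW' : W = H955.perp (qf hQ) (Submodule.span K {v₀}) := by
      ext u
      rw [hpole, H955.mem_perp]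
      constructor
      · intro h a ha
        obtain ⟨c, rfl⟩ := Submodule.mem_span_singleton.1 ha
        rw [polar_smul_left]
        change c • polar Q v₀ u = 0
        rw [h, smul_zero]
      · intro h
        exact h _ (Submodule.mem_span_singleton_self _)
    have h3 := card_norm_odd_minus h2 (nondeg_qf hQ) (k := 12)
      (by rw [Module.finrank_fintype_fun_eq_card]; exact hd) (v := v₀) hv₀ (by rw [← hW', isPlus_res_iff]; exact hW)
    rw [Nat.card_eq_fintype_card (α := K), hK] at h3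
    rw [← Nat.card_coe_set_eq, Nat.mul_sub_one, ← pow_add]
    exact Nat.eq_sub_of_add_eq h3
  obtain ⟨v, hvQ, hzv, hcv⟩ := core hQ hK hq hd' hY core'.le core'.normal core'.perfect hv₀ htr hS hf₂
  obtain ⟨y, hy, rfl⟩ := htr v hvQ
  have hf₃ := hf₂.congr (P.normalizerMonoidHom ⟨y⁻¹, pm_norm core'.normal ((pm Y).inv_mem hy)⟩)
  generalize (e.trans e₀).symm z₁ = z₂ at hf₂ hf₃ hzv hcv
  obtain ⟨z, hz, hf₄⟩ : ∃ z : P, (z : GL (Fin n) K) = y⁻¹ * z₂ * y⁻¹⁻¹ ∧ ∃ w, Fq P q z w r := ⟨_, rfl, _, hf₃⟩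
  obtain ⟨w, hf⟩ := hf₄
  rw [inv_inv] at hz
  have hzv₀ : ((z : GL (Fin n) K) : Matrix (Fin n) (Fin n) K) *ᵥ v₀ = v₀ := by
    rw [hz, mul_act, mul_act, hzv, ← mul_act, inv_mul_cancel, one_act]
  have hc₀ : ∀ g ∈ pm Y, (g : Matrix (Fin n) (Fin n) K) *ᵥ v₀ = v₀ → g * z = z * g := by
    intro g hg hgv
    have h3 := hcv (y * g * y⁻¹) ((pm Y).mul_mem ((pm Y).mul_mem hy hg) ((pm Y).inv_mem hy))
      (by rw [← mul_act, inv_mul_cancel_right, mul_act, hgv])
    rw [hz]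
    calc g * (y⁻¹ * z₂ * y) = y⁻¹ * (y * g * y⁻¹ * z₂) * y := by group
      _ = y⁻¹ * z₂ * y * g := by rw [h3]; group
  have hc : ∀ g ∈ Y, g ∈ subspaceStabilizer W → g * z = z * g := by
    intro g hg hgX
    rcases pm_of_point hQ (hY hg) hv₀ ((hX g (hY hg)).1 hgX) with h4 | h4
    · exact hc₀ g (Or.inl hg) h4
    · have := hc₀ (-g) (Or.inr (by rwa [neg_neg])) h4
      rwa [neg_mul, mul_neg, neg_inj] at this
  refine ⟨z, (hX _ (hY (core'.le z.2))).2 (mem_stab_point.2 ⟨1, by rw [hzv₀, one_smul]⟩), hf.sq,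
    fun h => hf.ne (Subtype.ext (hsc _ (core'.le z.2) h)), ?_, fun φ hφ => ?_⟩
  · by_contra hcon
    push Not at hcon
    have h3 : Nat.card (centralizer {z}) ≤ Nat.card ((subspaceStabilizer W).subgroupOf Y) := by
      refine Nat.card_le_card_of_injective (fun c => ⟨⟨c.1.1, core'.le c.1.2⟩,
        hcon c.1 (mem_centralizer_singleton_iff.1 c.2)⟩) fun a b hab => ?_
      exact Subtype.ext (Subtype.ext (congrArg (fun x => x.1.1) hab))
    have hYN : Y ≤ normalizer (P : Set (GL (Fin n) K)) := fun g hg => pm_norm core'.normal (Or.inl hg)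
    have h4 : Nat.card Y ≤ Nat.card (MulAut P) := by
      refine Nat.card_le_card_of_injective (P.normalizerMonoidHom.comp (inclusion hYN)) ?_
      rw [← MonoidHom.ker_eq_bot_iff, eq_bot_iff]
      intro g hg
      refine mem_bot.2 (Subtype.ext (hsc _ g.2 (core'.centralizer_scalar _ g.2 fun x hx => ?_)))
      have h5 : (g : GL (Fin n) K) * x * (g : GL (Fin n) K)⁻¹ = x :=
        congrArg Subtype.val (MulEquiv.congr_fun (MonoidHom.mem_ker.1 hg) (⟨x, hx⟩ : P))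
      rw [h5, mul_inv_cancel]
      exact one_mem _
    have h5 := ((subspaceStabilizer W).subgroupOf Y).card_mul_index
    have h6 := (centralizer {z}).card_mul_index
    have h7 := hf.aut
    rw [hf.idx] at h6
    rw [num_eq (by omega)] at hidx
    have h8 : 0 < Nat.card (centralizer {z}) := Nat.card_pos
    have h9 : Nat.card (centralizer {z}) * (subspaceStabilizer W).relIndex Y ≤
        Nat.card (centralizer {z}) * (q * (q ^ 8 * (q ^ 8 + q ^ 4 + 1))) := by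
      calc _ ≤ Nat.card Y := by
            rw [← h5]
            exact Nat.mul_le_mul_right _ h3
        _ ≤ q * Nat.card P := h4.trans h7
        _ = _ := by rw [← h6]; ring
    have h10 := Nat.mul_le_mul_right 2 (Nat.le_of_mul_le_mul_left h9 h8)
    rw [hidx, mul_right_comm q] at h10
    have h11 := Nat.le_of_mul_le_mul_right (c := q ^ 8 * (q ^ 8 + q ^ 4 + 1)) h10 (by positivity)
    have h12 : 3 ^ 4 ≤ q ^ 4 := Nat.pow_le_pow_left hq3 4
    have h13 : q ≤ q ^ 4 := Nat.le_self_pow (by norm_num) q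
    have h14 : q * 3 ≤ q ^ 4 * (q ^ 4 - 1) := Nat.mul_le_mul h13 (by omega)
    omega
  · have hnorm : (P.subgroupOf Y).Normal := ⟨fun x hx g => core'.normal _ g.2 _ hx⟩
    have hr := hf.big.prime
    have : Fact r.Prime := ⟨hr⟩
    have h3 : r ∣ Nat.card ↥(P.subgroupOf Y ⊓ (subspaceStabilizer W).subgroupOf Y) := by
      refine dvd_card_inf _ _ hr ?_ fun h => hf.ndvd ?_
      · rw [Nat.card_congr (subgroupOfEquivOfLe core'.le).toEquiv]
        exact hf.dvd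
      · rw [← hidx]
        exact h.mul_right 2
    obtain ⟨g₀, hg₀⟩ := exists_prime_orderOf_dvd_card' r h3
    let g : P := ⟨g₀.1.1, g₀.2.1⟩
    have hg : orderOf (e g) = r := by
      rw [e.orderOf_eq, ← hg₀, ← orderOf_coe, ← orderOf_coe g₀, ← orderOf_coe g₀.1]
    have hf' := hf.congr e
    have hcomm : ∀ a ∈ img (subspaceStabilizer W) P, e z * a = a * e z := by
      rintro _ ⟨a, ha, rfl⟩
      change e z * e a = e a * e z
      rw [← map_mul, ← map_mul]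
      exact congrArg e (Subtype.ext (hc _ (core'.le a.2) ha).symm)
    have hgi : e g ∈ img (subspaceStabilizer W) P := ⟨g, g₀.2.2, rfl⟩
    rw [← he]
    refine inv_unique (hf'.big.cyc _ hg) ?_ (mem_centralizer_singleton_iff.2 (hcomm _ hgi)) (hf'.congr φ).sq hf'.sq
      (hf'.congr φ).ne hf'.ne
    rw [← hφ] at hgi
    obtain ⟨a, ha, hae⟩ := hgi
    rw [mem_centralizer_singleton_iff, ← hae]
    change φ (e z) * φ a = φ a * φ (e z)
    rw [← map_mul, ← map_mul, hcomm a ha]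

end Cfsg.Agent.SM.CS
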